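import Cfsg.Agent.Lib.H35.TCMHeF.Data
import Cfsg.Agent.Lib.H35.TCIdx
set_option autoImplicit false
set_option maxRecDepth 100000
set_option linter.all false
namespace H35.TCMHeF
open H35.TC
/-- letters -/
inductive Lt | a | ai | b | z | zi
  deriving DecidableEq
/-- inverse letter -/
def inv : Lt → Lt
  | .a => .ai
  | .ai => .a
  | .b => .b
  | .z => .zi
  | .zi => .z
/-- table functions -/
noncomputable def T : Lt → ℕ → ℕ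
  | .a => T_a
  | .ai => T_ai
  | .b => T_b
  | .z => T_z
  | .zi => T_zi
/-- decoding of letter codes -/
def lt : ℕ → Lt
  | 0 => .a
  | 1 => .ai
  | 2 => .b
  | 3 => .z
  | _ => .zi
/-- Coxeter matrix (0: no relation) -/
def mm : Lt → Lt → ℕ
  | .b, .b => 1
  | _, _ => 0
/-- extra relators `w ^ n` -/
def extra : List (List Lt × ℕ) := [
  ([.z, .a, .zi, .ai], 1),
  ([.z, .b, .zi, .b], 1),
  ([.a, .a, .a, .b, .a, .a, .a, .b, .a, .a, .a, .b, .zi], 1),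
  ([.b, .ai, .ai, .b, .a, .a, .b, .a], 2),
  ([.a], 17),
  ([.z], 105),
  ([.a, .ai], 1),
  ([.ai, .a], 1),
  ([.z, .zi], 1),
  ([.zi, .z], 1)]
/-- relators -/
def rels : List (List Lt) := mkRels [(.b, .b)] mm extra
/-- subgroup words -/
def subs : List (List Lt) := [
  [.a]]
noncomputable def dp_a_0 (j u : ℕ) : Bool :=
  Bool.rec (motive := fun _ => Bool) (lF3 T_z T_ai T_zi M (Nat.sub (T_a u) (Nat.mod (T_a u) M)) (Nat.mod (T_a u) M) u) (lS MG [T_ai] M (Nat.sub (T_a u) (Nat.mod (T_a u) M)) (nat_lit 40) (Nat.mod (T_a u) M) u) (Nat.ble (nat_lit 5) j)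
noncomputable def dp_a_1 (j u : ℕ) : Bool :=
  Bool.rec (motive := fun _ => Bool) (lF [T_a, T_a, T_b, T_zi, T_a, T_a, T_a, T_b, T_a, T_a, T_a, T_b] M (Nat.sub (T_a u) (Nat.mod (T_a u) M)) (Nat.mod (T_a u) M) u) (lF [T_a, T_b, T_ai, T_b, T_ai, T_ai, T_b, T_a, T_a, T_b, T_ai, T_b, T_ai, T_ai, T_b] M (Nat.sub (T_a u) (Nat.mod (T_a u) M)) (Nat.mod (T_a u) M) u) (Nat.ble (nat_lit 9) j)
noncomputable def dp_a_2 (j u : ℕ) : Bool :=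
  Bool.rec (motive := fun _ => Bool) (lF [T_a, T_a, T_b, T_a, T_a, T_a, T_b, T_a, T_a, T_a, T_b, T_zi] M (Nat.sub (T_a u) (Nat.mod (T_a u) M)) (Nat.mod (T_a u) M) u) (dp_a_1 j u) (Nat.ble (nat_lit 8) j)
noncomputable def dp_a_3 (j u : ℕ) : Bool :=
  Bool.rec (motive := fun _ => Bool) (lF [T_b, T_a, T_a, T_a, T_b, T_a, T_a, T_a, T_b, T_zi, T_a, T_a] M (Nat.sub (T_a u) (Nat.mod (T_a u) M)) (Nat.mod (T_a u) M) u) (dp_a_2 j u) (Nat.ble (nat_lit 7) j)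
noncomputable def dp_a_4 (j u : ℕ) : Bool :=
  Bool.rec (motive := fun _ => Bool) (lF [T_b, T_a, T_a, T_a, T_b, T_zi, T_a, T_a, T_a, T_b, T_a, T_a] M (Nat.sub (T_a u) (Nat.mod (T_a u) M)) (Nat.mod (T_a u) M) u) (lS MG [T_a, T_b, T_a, T_b, T_ai, T_ai, T_b, T_a, T_a, T_b, T_a, T_b, T_ai, T_ai, T_b] M (Nat.sub (T_a u) (Nat.mod (T_a u) M)) (nat_lit 40) (Nat.mod (T_a u) M) u) (Nat.ble (nat_lit 11) j)
noncomputable def dp_a_5 (j u : ℕ) : Bool :=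
  Bool.rec (motive := fun _ => Bool) (lF [T_b, T_a, T_b, T_ai, T_ai, T_b, T_a, T_a, T_b, T_a, T_b, T_ai, T_ai, T_b, T_a] M (Nat.sub (T_a u) (Nat.mod (T_a u) M)) (Nat.mod (T_a u) M) u) (lS MG [T_a, T_a, T_b, T_zi, T_a, T_a, T_a, T_b, T_a, T_a, T_a, T_b] M (Nat.sub (T_a u) (Nat.mod (T_a u) M)) (nat_lit 40) (Nat.mod (T_a u) M) u) (Nat.ble (nat_lit 14) j)
noncomputable def dp_a_6 (j u : ℕ) : Bool :=
  Bool.rec (motive := fun _ => Bool) (lS MG [T_b, T_a, T_b, T_ai, T_ai, T_b, T_a, T_a, T_b, T_a, T_b, T_ai, T_ai, T_b, T_a] M (Nat.sub (T_a u) (Nat.mod (T_a u) M)) (nat_lit 40) (Nat.mod (T_a u) M) u) (dp_a_5 j u) (Nat.ble (nat_lit 13) j)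
noncomputable def dp_a_7 (j u : ℕ) : Bool :=
  Bool.rec (motive := fun _ => Bool) (dp_a_4 j u) (dp_a_6 j u) (Nat.ble (nat_lit 12) j)
noncomputable def dp_a_8 (j u : ℕ) : Bool :=
  Bool.rec (motive := fun _ => Bool) (dp_a_3 j u) (dp_a_7 j u) (Nat.ble (nat_lit 10) j)
noncomputable def dp_a_9 (j u : ℕ) : Bool :=
  Bool.rec (motive := fun _ => Bool) (lS MG [T_a, T_a, T_b, T_a, T_a, T_a, T_b, T_zi, T_a, T_a, T_a, T_b] M (Nat.sub (T_a u) (Nat.mod (T_a u) M)) (nat_lit 40) (Nat.mod (T_a u) M) u) (lS MG [T_a, T_b, T_ai, T_b, T_ai, T_ai, T_b, T_a, T_a, T_b, T_ai, T_b, T_ai, T_ai, T_b] M (Nat.sub (T_a u) (Nat.mod (T_a u) M)) (nat_lit 40) (Nat.mod (T_a u) M) u) (Nat.ble (nat_lit 16) j)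
noncomputable def dp_a_10 (j u : ℕ) : Bool :=
  Bool.rec (motive := fun _ => Bool) (lF [T_a, T_a, T_b, T_a, T_a, T_a, T_b, T_zi, T_a, T_a, T_a, T_b] M (Nat.sub (T_a u) (Nat.mod (T_a u) M)) (Nat.mod (T_a u) M) u) (lH [] [] M (Nat.sub (T_a u) (Nat.mod (T_a u) M)) (Nat.mod (T_a u) M) u) (Nat.ble (nat_lit 18) j)
noncomputable def dp_a_11 (j u : ℕ) : Bool :=
  Bool.rec (motive := fun _ => Bool) (lF [T_b, T_ai, T_ai, T_b, T_a, T_a, T_b, T_a, T_b, T_ai, T_ai, T_b, T_a, T_a, T_b] M (Nat.sub (T_a u) (Nat.mod (T_a u) M)) (Nat.mod (T_a u) M) u) (lF [T_a, T_b, T_a, T_a, T_a, T_b, T_a, T_a, T_a, T_b, T_zi, T_a] M (Nat.sub (T_a u) (Nat.mod (T_a u) M)) (Nat.mod (T_a u) M) u) (Nat.ble (nat_lit 21) j)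
noncomputable def dp_a_12 (j u : ℕ) : Bool :=
  Bool.rec (motive := fun _ => Bool) (lF [T_a, T_b, T_a, T_b, T_ai, T_ai, T_b, T_a, T_a, T_b, T_a, T_b, T_ai, T_ai, T_b] M (Nat.sub (T_a u) (Nat.mod (T_a u) M)) (Nat.mod (T_a u) M) u) (dp_a_11 j u) (Nat.ble (nat_lit 20) j)
noncomputable def dp_a_13 (j u : ℕ) : Bool :=
  Bool.rec (motive := fun _ => Bool) (dp_a_10 j u) (dp_a_12 j u) (Nat.ble (nat_lit 19) j)
noncomputable def dp_a_14 (j u : ℕ) : Bool :=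
  Bool.rec (motive := fun _ => Bool) (dp_a_9 j u) (dp_a_13 j u) (Nat.ble (nat_lit 17) j)
noncomputable def dp_a_15 (j u : ℕ) : Bool :=
  Bool.rec (motive := fun _ => Bool) (lS MG [T_zi, T_ai, T_z] M (Nat.sub (T_a u) (Nat.mod (T_a u) M)) (nat_lit 40) (Nat.mod (T_a u) M) u) (lF [T_a, T_a, T_a, T_a, T_a, T_a, T_a, T_a, T_a, T_a, T_a, T_a, T_a, T_a, T_a, T_a] M (Nat.sub (T_a u) (Nat.mod (T_a u) M)) (Nat.mod (T_a u) M) u) (Nat.ble (nat_lit 23) j)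
noncomputable def dp_a_16 (j u : ℕ) : Bool :=
  Bool.rec (motive := fun _ => Bool) (lF [T_b, T_ai, T_b, T_ai, T_ai, T_b, T_a, T_a, T_b, T_ai, T_b, T_ai, T_ai, T_b, T_a] M (Nat.sub (T_a u) (Nat.mod (T_a u) M)) (Nat.mod (T_a u) M) u) (lS MG [T_a, T_b, T_zi, T_a, T_a, T_a, T_b, T_a, T_a, T_a, T_b, T_a] M (Nat.sub (T_a u) (Nat.mod (T_a u) M)) (nat_lit 40) (Nat.mod (T_a u) M) u) (Nat.ble (nat_lit 26) j)
noncomputable def dp_a_17 (j u : ℕ) : Bool :=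
  Bool.rec (motive := fun _ => Bool) (lS MG [T_a, T_b, T_a, T_a, T_a, T_b, T_a, T_a, T_a, T_b, T_zi, T_a] M (Nat.sub (T_a u) (Nat.mod (T_a u) M)) (nat_lit 40) (Nat.mod (T_a u) M) u) (dp_a_16 j u) (Nat.ble (nat_lit 25) j)
noncomputable def dp_a_18 (j u : ℕ) : Bool :=
  Bool.rec (motive := fun _ => Bool) (dp_a_15 j u) (dp_a_17 j u) (Nat.ble (nat_lit 24) j)
noncomputable def dp_a_19 (j u : ℕ) : Bool :=
  Bool.rec (motive := fun _ => Bool) (lS MG [T_a, T_b, T_a, T_a, T_a, T_b, T_zi, T_a, T_a, T_a, T_b, T_a] M (Nat.sub (T_a u) (Nat.mod (T_a u) M)) (nat_lit 40) (Nat.mod (T_a u) M) u) (lS MG [T_b, T_ai, T_ai, T_b, T_a, T_a, T_b, T_a, T_b, T_ai, T_ai, T_b, T_a, T_a, T_b] M (Nat.sub (T_a u) (Nat.mod (T_a u) M)) (nat_lit 40) (Nat.mod (T_a u) M) u) (Nat.ble (nat_lit 29) j)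
noncomputable def dp_a_20 (j u : ℕ) : Bool :=
  Bool.rec (motive := fun _ => Bool) (lS MG [T_b, T_a, T_a, T_a, T_b, T_zi, T_a, T_a, T_a, T_b, T_a, T_a] M (Nat.sub (T_a u) (Nat.mod (T_a u) M)) (nat_lit 40) (Nat.mod (T_a u) M) u) (dp_a_19 j u) (Nat.ble (nat_lit 28) j)
noncomputable def dp_a_21 (j u : ℕ) : Bool :=
  Bool.rec (motive := fun _ => Bool) (lF [T_a, T_b, T_a, T_a, T_a, T_b, T_zi, T_a, T_a, T_a, T_b, T_a] M (Nat.sub (T_a u) (Nat.mod (T_a u) M)) (Nat.mod (T_a u) M) u) (lF [T_b, T_zi, T_a, T_a, T_a, T_b, T_a, T_a, T_a, T_b, T_a, T_a] M (Nat.sub (T_a u) (Nat.mod (T_a u) M)) (Nat.mod (T_a u) M) u) (Nat.ble (nat_lit 32) j)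
noncomputable def dp_a_22 (j u : ℕ) : Bool :=
  Bool.rec (motive := fun _ => Bool) (lF [T_a, T_b, T_zi, T_a, T_a, T_a, T_b, T_a, T_a, T_a, T_b, T_a] M (Nat.sub (T_a u) (Nat.mod (T_a u) M)) (Nat.mod (T_a u) M) u) (dp_a_21 j u) (Nat.ble (nat_lit 31) j)
noncomputable def dp_a_23 (j u : ℕ) : Bool :=
  Bool.rec (motive := fun _ => Bool) (dp_a_20 j u) (dp_a_22 j u) (Nat.ble (nat_lit 30) j)
noncomputable def dp_a_24 (j u : ℕ) : Bool :=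
  Bool.rec (motive := fun _ => Bool) (dp_a_18 j u) (dp_a_23 j u) (Nat.ble (nat_lit 27) j)
noncomputable def dp_a_25 (j u : ℕ) : Bool :=
  Bool.rec (motive := fun _ => Bool) (dp_a_14 j u) (dp_a_24 j u) (Nat.ble (nat_lit 22) j)
noncomputable def dp_a_26 (j u : ℕ) : Bool :=
  Bool.rec (motive := fun _ => Bool) (dp_a_8 j u) (dp_a_25 j u) (Nat.ble (nat_lit 15) j)
noncomputable def dp_a_27 (j u : ℕ) : Bool :=
  Bool.rec (motive := fun _ => Bool) (dp_a_0 j u) (dp_a_26 j u) (Nat.ble (nat_lit 6) j)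
noncomputable def dp_a_28 (j u : ℕ) : Bool :=
  Bool.rec (motive := fun _ => Bool) (Bool.rec (motive := fun _ => Bool) (lF1 T_ai M (Nat.sub (T_a u) (Nat.mod (T_a u) M)) (Nat.mod (T_a u) M) u) (lF3 T_zi T_ai T_z M (Nat.sub (T_a u) (Nat.mod (T_a u) M)) (Nat.mod (T_a u) M) u) (Nat.ble (nat_lit 3) j)) (dp_a_27 j u) (Nat.ble (nat_lit 4) j)
noncomputable def disp_a (j u : ℕ) : Bool :=
  Bool.rec (motive := fun _ => Bool) (Bool.rec (motive := fun _ => Bool) (lDef P (nat_lit 1) u (Nat.mod (T_a u) M)) (lDef P (nat_lit 0) (Nat.mod (T_a u) M) u) (Nat.ble (nat_lit 1) j)) (dp_a_28 j u) (Nat.ble (nat_lit 2) j)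
noncomputable def chk_a (j u : ℕ) : Bool :=
  Bool.rec (motive := fun _ => Bool) (disp_a j u) (Nat.ble (Nat.succ (MG u)) A) (Nat.ble A (T_a u))
noncomputable def dp_ai_0 (j u : ℕ) : Bool :=
  Bool.rec (motive := fun _ => Bool) (lS MG [T_ai, T_b, T_ai, T_ai, T_ai, T_z, T_b, T_ai, T_ai, T_ai, T_b, T_ai] M (Nat.sub (T_ai u) (Nat.mod (T_ai u) M)) (nat_lit 40) (Nat.mod (T_ai u) M) u) (lS MG [T_b, T_ai, T_ai, T_ai, T_z, T_b, T_ai, T_ai, T_ai, T_b, T_ai, T_ai] M (Nat.sub (T_ai u) (Nat.mod (T_ai u) M)) (nat_lit 40) (Nat.mod (T_ai u) M) u) (Nat.ble (nat_lit 7) j)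
noncomputable def dp_ai_1 (j u : ℕ) : Bool :=
  Bool.rec (motive := fun _ => Bool) (lS MG [T_a] M (Nat.sub (T_ai u) (Nat.mod (T_ai u) M)) (nat_lit 40) (Nat.mod (T_ai u) M) u) (dp_ai_0 j u) (Nat.ble (nat_lit 6) j)
noncomputable def dp_ai_2 (j u : ℕ) : Bool :=
  Bool.rec (motive := fun _ => Bool) (lF [T_b, T_ai, T_ai, T_ai, T_b, T_ai, T_ai, T_ai, T_z, T_b, T_ai, T_ai] M (Nat.sub (T_ai u) (Nat.mod (T_ai u) M)) (Nat.mod (T_ai u) M) u) (lF [T_b, T_ai, T_ai, T_b, T_a, T_a, T_b, T_ai, T_b, T_ai, T_ai, T_b, T_a, T_a, T_b] M (Nat.sub (T_ai u) (Nat.mod (T_ai u) M)) (Nat.mod (T_ai u) M) u) (Nat.ble (nat_lit 10) j)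
noncomputable def dp_ai_3 (j u : ℕ) : Bool :=
  Bool.rec (motive := fun _ => Bool) (lS MG [T_ai, T_ai, T_ai, T_ai, T_ai, T_ai, T_ai, T_ai, T_ai, T_ai, T_ai, T_ai, T_ai, T_ai, T_ai, T_ai] M (Nat.sub (T_ai u) (Nat.mod (T_ai u) M)) (nat_lit 40) (Nat.mod (T_ai u) M) u) (dp_ai_2 j u) (Nat.ble (nat_lit 9) j)
noncomputable def dp_ai_4 (j u : ℕ) : Bool :=
  Bool.rec (motive := fun _ => Bool) (lS MG [T_ai, T_b, T_ai, T_ai, T_ai, T_b, T_ai, T_ai, T_ai, T_z, T_b, T_ai] M (Nat.sub (T_ai u) (Nat.mod (T_ai u) M)) (nat_lit 40) (Nat.mod (T_ai u) M) u) (lF [T_b, T_a, T_a, T_b, T_ai, T_b, T_ai, T_ai, T_b, T_a, T_a, T_b, T_ai, T_b, T_ai] M (Nat.sub (T_ai u) (Nat.mod (T_ai u) M)) (Nat.mod (T_ai u) M) u) (Nat.ble (nat_lit 13) j)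
noncomputable def dp_ai_5 (j u : ℕ) : Bool :=
  Bool.rec (motive := fun _ => Bool) (lF [T_ai, T_b, T_a, T_a, T_b, T_a, T_b, T_ai, T_ai, T_b, T_a, T_a, T_b, T_a, T_b] M (Nat.sub (T_ai u) (Nat.mod (T_ai u) M)) (Nat.mod (T_ai u) M) u) (dp_ai_4 j u) (Nat.ble (nat_lit 12) j)
noncomputable def dp_ai_6 (j u : ℕ) : Bool :=
  Bool.rec (motive := fun _ => Bool) (dp_ai_3 j u) (dp_ai_5 j u) (Nat.ble (nat_lit 11) j)
noncomputable def dp_ai_7 (j u : ℕ) : Bool :=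
  Bool.rec (motive := fun _ => Bool) (lF [T_z, T_b, T_ai, T_ai, T_ai, T_b, T_ai, T_ai, T_ai, T_b, T_ai, T_ai] M (Nat.sub (T_ai u) (Nat.mod (T_ai u) M)) (Nat.mod (T_ai u) M) u) (lS MG [T_ai, T_ai, T_b, T_ai, T_ai, T_ai, T_z, T_b, T_ai, T_ai, T_ai, T_b] M (Nat.sub (T_ai u) (Nat.mod (T_ai u) M)) (nat_lit 40) (Nat.mod (T_ai u) M) u) (Nat.ble (nat_lit 15) j)
noncomputable def dp_ai_8 (j u : ℕ) : Bool :=
  Bool.rec (motive := fun _ => Bool) (lF [T_ai, T_ai, T_z, T_b, T_ai, T_ai, T_ai, T_b, T_ai, T_ai, T_ai, T_b] M (Nat.sub (T_ai u) (Nat.mod (T_ai u) M)) (Nat.mod (T_ai u) M) u) (lF [T_ai, T_b, T_ai, T_ai, T_ai, T_z, T_b, T_ai, T_ai, T_ai, T_b, T_ai] M (Nat.sub (T_ai u) (Nat.mod (T_ai u) M)) (Nat.mod (T_ai u) M) u) (Nat.ble (nat_lit 18) j)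
noncomputable def dp_ai_9 (j u : ℕ) : Bool :=
  Bool.rec (motive := fun _ => Bool) (lF [T_ai, T_b, T_ai, T_ai, T_ai, T_b, T_ai, T_ai, T_ai, T_z, T_b, T_ai] M (Nat.sub (T_ai u) (Nat.mod (T_ai u) M)) (Nat.mod (T_ai u) M) u) (dp_ai_8 j u) (Nat.ble (nat_lit 17) j)
noncomputable def dp_ai_10 (j u : ℕ) : Bool :=
  Bool.rec (motive := fun _ => Bool) (dp_ai_7 j u) (dp_ai_9 j u) (Nat.ble (nat_lit 16) j)
noncomputable def dp_ai_11 (j u : ℕ) : Bool :=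
  Bool.rec (motive := fun _ => Bool) (lS MG [T_ai, T_b, T_a, T_a, T_b, T_ai, T_b, T_ai, T_ai, T_b, T_a, T_a, T_b, T_ai, T_b] M (Nat.sub (T_ai u) (Nat.mod (T_ai u) M)) (nat_lit 40) (Nat.mod (T_ai u) M) u) (lF [T_b, T_ai, T_ai, T_ai, T_z, T_b, T_ai, T_ai, T_ai, T_b, T_ai, T_ai] M (Nat.sub (T_ai u) (Nat.mod (T_ai u) M)) (Nat.mod (T_ai u) M) u) (Nat.ble (nat_lit 21) j)
noncomputable def dp_ai_12 (j u : ℕ) : Bool :=
  Bool.rec (motive := fun _ => Bool) (lF [T_ai, T_ai, T_b, T_ai, T_ai, T_ai, T_z, T_b, T_ai, T_ai, T_ai, T_b] M (Nat.sub (T_ai u) (Nat.mod (T_ai u) M)) (Nat.mod (T_ai u) M) u) (dp_ai_11 j u) (Nat.ble (nat_lit 20) j)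
noncomputable def dp_ai_13 (j u : ℕ) : Bool :=
  Bool.rec (motive := fun _ => Bool) (lS MG [T_b, T_ai, T_ai, T_b, T_a, T_a, T_b, T_ai, T_b, T_ai, T_ai, T_b, T_a, T_a, T_b] M (Nat.sub (T_ai u) (Nat.mod (T_ai u) M)) (nat_lit 40) (Nat.mod (T_ai u) M) u) (lS MG [T_ai, T_b, T_a, T_a, T_b, T_a, T_b, T_ai, T_ai, T_b, T_a, T_a, T_b, T_a, T_b] M (Nat.sub (T_ai u) (Nat.mod (T_ai u) M)) (nat_lit 40) (Nat.mod (T_ai u) M) u) (Nat.ble (nat_lit 24) j)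
noncomputable def dp_ai_14 (j u : ℕ) : Bool :=
  Bool.rec (motive := fun _ => Bool) (lS MG [T_ai, T_ai, T_z, T_b, T_ai, T_ai, T_ai, T_b, T_ai, T_ai, T_ai, T_b] M (Nat.sub (T_ai u) (Nat.mod (T_ai u) M)) (nat_lit 40) (Nat.mod (T_ai u) M) u) (dp_ai_13 j u) (Nat.ble (nat_lit 23) j)
noncomputable def dp_ai_15 (j u : ℕ) : Bool :=
  Bool.rec (motive := fun _ => Bool) (dp_ai_12 j u) (dp_ai_14 j u) (Nat.ble (nat_lit 22) j)
noncomputable def dp_ai_16 (j u : ℕ) : Bool :=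
  Bool.rec (motive := fun _ => Bool) (dp_ai_10 j u) (dp_ai_15 j u) (Nat.ble (nat_lit 19) j)
noncomputable def dp_ai_17 (j u : ℕ) : Bool :=
  Bool.rec (motive := fun _ => Bool) (dp_ai_6 j u) (dp_ai_16 j u) (Nat.ble (nat_lit 14) j)
noncomputable def dp_ai_18 (j u : ℕ) : Bool :=
  Bool.rec (motive := fun _ => Bool) (dp_ai_1 j u) (dp_ai_17 j u) (Nat.ble (nat_lit 8) j)
noncomputable def dp_ai_19 (j u : ℕ) : Bool :=
  Bool.rec (motive := fun _ => Bool) (Bool.rec (motive := fun _ => Bool) (lF3 T_zi T_a T_z M (Nat.sub (T_ai u) (Nat.mod (T_ai u) M)) (Nat.mod (T_ai u) M) u) (lF3 T_z T_a T_zi M (Nat.sub (T_ai u) (Nat.mod (T_ai u) M)) (Nat.mod (T_ai u) M) u) (Nat.ble (nat_lit 4) j)) (dp_ai_18 j u) (Nat.ble (nat_lit 5) j)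
noncomputable def dp_ai_20 (j u : ℕ) : Bool :=
  Bool.rec (motive := fun _ => Bool) (lF1 T_a M (Nat.sub (T_ai u) (Nat.mod (T_ai u) M)) (Nat.mod (T_ai u) M) u) (dp_ai_19 j u) (Nat.ble (nat_lit 3) j)
noncomputable def disp_ai (j u : ℕ) : Bool :=
  Bool.rec (motive := fun _ => Bool) (Bool.rec (motive := fun _ => Bool) (lDef P (nat_lit 1) (Nat.mod (T_ai u) M) u) (lDef P (nat_lit 0) u (Nat.mod (T_ai u) M)) (Nat.ble (nat_lit 1) j)) (dp_ai_20 j u) (Nat.ble (nat_lit 2) j)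
noncomputable def chk_ai (j u : ℕ) : Bool :=
  Bool.rec (motive := fun _ => Bool) (disp_ai j u) (Nat.ble (Nat.succ (MG u)) A) (Nat.ble A (T_ai u))
noncomputable def dp_b_0 (j u : ℕ) : Bool :=
  Bool.rec (motive := fun _ => Bool) (lF [T_a, T_a, T_a, T_b, T_zi, T_a, T_a, T_a, T_b, T_a, T_a, T_a] M (Nat.sub (T_b u) (Nat.mod (T_b u) M)) (Nat.mod (T_b u) M) u) (lS MG [T_a, T_a, T_b, T_ai, T_b, T_ai, T_ai, T_b, T_a, T_a, T_b, T_ai, T_b, T_ai, T_ai] M (Nat.sub (T_b u) (Nat.mod (T_b u) M)) (nat_lit 40) (Nat.mod (T_b u) M) u) (Nat.ble (nat_lit 8) j)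
noncomputable def dp_b_1 (j u : ℕ) : Bool :=
  Bool.rec (motive := fun _ => Bool) (lF [T_a, T_a, T_a, T_b, T_a, T_a, T_a, T_b, T_zi, T_a, T_a, T_a] M (Nat.sub (T_b u) (Nat.mod (T_b u) M)) (Nat.mod (T_b u) M) u) (dp_b_0 j u) (Nat.ble (nat_lit 7) j)
noncomputable def dp_b_2 (j u : ℕ) : Bool :=
  Bool.rec (motive := fun _ => Bool) (lS MG [T_b] M (Nat.sub (T_b u) (Nat.mod (T_b u) M)) (nat_lit 40) (Nat.mod (T_b u) M) u) (dp_b_1 j u) (Nat.ble (nat_lit 6) j)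
noncomputable def dp_b_3 (j u : ℕ) : Bool :=
  Bool.rec (motive := fun _ => Bool) (lS MG [T_ai, T_ai, T_ai, T_b, T_ai, T_ai, T_ai, T_z, T_b, T_ai, T_ai, T_ai] M (Nat.sub (T_b u) (Nat.mod (T_b u) M)) (nat_lit 40) (Nat.mod (T_b u) M) u) (lF [T_a, T_a, T_b, T_ai, T_b, T_ai, T_ai, T_b, T_a, T_a, T_b, T_ai, T_b, T_ai, T_ai] M (Nat.sub (T_b u) (Nat.mod (T_b u) M)) (Nat.mod (T_b u) M) u) (Nat.ble (nat_lit 10) j)
noncomputable def dp_b_4 (j u : ℕ) : Bool :=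
  Bool.rec (motive := fun _ => Bool) (lS MG [T_ai, T_ai, T_b, T_a, T_a, T_b, T_a, T_b, T_ai, T_ai, T_b, T_a, T_a, T_b, T_a] M (Nat.sub (T_b u) (Nat.mod (T_b u) M)) (nat_lit 40) (Nat.mod (T_b u) M) u) (lS MG [T_ai, T_ai, T_ai, T_z, T_b, T_ai, T_ai, T_ai, T_b, T_ai, T_ai, T_ai] M (Nat.sub (T_b u) (Nat.mod (T_b u) M)) (nat_lit 40) (Nat.mod (T_b u) M) u) (Nat.ble (nat_lit 12) j)
noncomputable def dp_b_5 (j u : ℕ) : Bool :=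
  Bool.rec (motive := fun _ => Bool) (dp_b_3 j u) (dp_b_4 j u) (Nat.ble (nat_lit 11) j)
noncomputable def dp_b_6 (j u : ℕ) : Bool :=
  Bool.rec (motive := fun _ => Bool) (lS MG [T_a, T_a, T_a, T_b, T_a, T_a, T_a, T_b, T_zi, T_a, T_a, T_a] M (Nat.sub (T_b u) (Nat.mod (T_b u) M)) (nat_lit 40) (Nat.mod (T_b u) M) u) (lS MG [T_a, T_a, T_b, T_a, T_b, T_ai, T_ai, T_b, T_a, T_a, T_b, T_a, T_b, T_ai, T_ai] M (Nat.sub (T_b u) (Nat.mod (T_b u) M)) (nat_lit 40) (Nat.mod (T_b u) M) u) (Nat.ble (nat_lit 14) j)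
noncomputable def dp_b_7 (j u : ℕ) : Bool :=
  Bool.rec (motive := fun _ => Bool) (lF [T_ai, T_b, T_ai, T_ai, T_b, T_a, T_a, T_b, T_ai, T_b, T_ai, T_ai, T_b, T_a, T_a] M (Nat.sub (T_b u) (Nat.mod (T_b u) M)) (Nat.mod (T_b u) M) u) (lS MG [T_ai, T_b, T_ai, T_ai, T_b, T_a, T_a, T_b, T_ai, T_b, T_ai, T_ai, T_b, T_a, T_a] M (Nat.sub (T_b u) (Nat.mod (T_b u) M)) (nat_lit 40) (Nat.mod (T_b u) M) u) (Nat.ble (nat_lit 16) j)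
noncomputable def dp_b_8 (j u : ℕ) : Bool :=
  Bool.rec (motive := fun _ => Bool) (dp_b_6 j u) (dp_b_7 j u) (Nat.ble (nat_lit 15) j)
noncomputable def dp_b_9 (j u : ℕ) : Bool :=
  Bool.rec (motive := fun _ => Bool) (lF [T_ai, T_ai, T_ai, T_b, T_ai, T_ai, T_ai, T_b, T_ai, T_ai, T_ai, T_z] M (Nat.sub (T_b u) (Nat.mod (T_b u) M)) (Nat.mod (T_b u) M) u) (lF [T_zi, T_a, T_a, T_a, T_b, T_a, T_a, T_a, T_b, T_a, T_a, T_a] M (Nat.sub (T_b u) (Nat.mod (T_b u) M)) (Nat.mod (T_b u) M) u) (Nat.ble (nat_lit 18) j)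
noncomputable def dp_b_10 (j u : ℕ) : Bool :=
  Bool.rec (motive := fun _ => Bool) (lS MG [T_a, T_b, T_ai, T_ai, T_b, T_a, T_a, T_b, T_a, T_b, T_ai, T_ai, T_b, T_a, T_a] M (Nat.sub (T_b u) (Nat.mod (T_b u) M)) (nat_lit 40) (Nat.mod (T_b u) M) u) (lF [T_ai, T_ai, T_ai, T_b, T_ai, T_ai, T_ai, T_z, T_b, T_ai, T_ai, T_ai] M (Nat.sub (T_b u) (Nat.mod (T_b u) M)) (Nat.mod (T_b u) M) u) (Nat.ble (nat_lit 20) j)
noncomputable def dp_b_11 (j u : ℕ) : Bool :=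
  Bool.rec (motive := fun _ => Bool) (dp_b_9 j u) (dp_b_10 j u) (Nat.ble (nat_lit 19) j)
noncomputable def dp_b_12 (j u : ℕ) : Bool :=
  Bool.rec (motive := fun _ => Bool) (dp_b_8 j u) (dp_b_11 j u) (Nat.ble (nat_lit 17) j)
noncomputable def dp_b_13 (j u : ℕ) : Bool :=
  Bool.rec (motive := fun _ => Bool) (dp_b_5 j u) (dp_b_12 j u) (Nat.ble (nat_lit 13) j)
noncomputable def dp_b_14 (j u : ℕ) : Bool :=
  Bool.rec (motive := fun _ => Bool) (dp_b_2 j u) (dp_b_13 j u) (Nat.ble (nat_lit 9) j)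
noncomputable def dp_b_15 (j u : ℕ) : Bool :=
  Bool.rec (motive := fun _ => Bool) (lF3 T_z T_b T_zi M (Nat.sub (T_b u) (Nat.mod (T_b u) M)) (Nat.mod (T_b u) M) u) (dp_b_14 j u) (Nat.ble (nat_lit 5) j)
noncomputable def dp_b_16 (j u : ℕ) : Bool :=
  Bool.rec (motive := fun _ => Bool) (lF3 T_zi T_b T_z M (Nat.sub (T_b u) (Nat.mod (T_b u) M)) (Nat.mod (T_b u) M) u) (dp_b_15 j u) (Nat.ble (nat_lit 4) j)
noncomputable def dp_b_17 (j u : ℕ) : Bool :=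
  Bool.rec (motive := fun _ => Bool) (lF1 T_b M (Nat.sub (T_b u) (Nat.mod (T_b u) M)) (Nat.mod (T_b u) M) u) (dp_b_16 j u) (Nat.ble (nat_lit 3) j)
noncomputable def disp_b (j u : ℕ) : Bool :=
  Bool.rec (motive := fun _ => Bool) (Bool.rec (motive := fun _ => Bool) (lDef P (nat_lit 2) (Nat.mod (T_b u) M) u) (lDef P (nat_lit 2) u (Nat.mod (T_b u) M)) (Nat.ble (nat_lit 1) j)) (dp_b_17 j u) (Nat.ble (nat_lit 2) j)
noncomputable def chk_b (j u : ℕ) : Bool :=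
  Bool.rec (motive := fun _ => Bool) (disp_b j u) (Nat.ble (Nat.succ (MG u)) A) (Nat.ble A (T_b u))
noncomputable def dp_z_0 (j u : ℕ) : Bool :=
  Bool.rec (motive := fun _ => Bool) (lF3 T_a T_zi T_ai M (Nat.sub (T_z u) (Nat.mod (T_z u) M)) (Nat.mod (T_z u) M) u) (lS MG [T_b, T_zi, T_b] M (Nat.sub (T_z u) (Nat.mod (T_z u) M)) (nat_lit 40) (Nat.mod (T_z u) M) u) (Nat.ble (nat_lit 5) j)
noncomputable def dp_z_1 (j u : ℕ) : Bool :=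
  Bool.rec (motive := fun _ => Bool) (lS MG [T_ai, T_zi, T_a] M (Nat.sub (T_z u) (Nat.mod (T_z u) M)) (nat_lit 40) (Nat.mod (T_z u) M) u) (lS MG [T_zi] M (Nat.sub (T_z u) (Nat.mod (T_z u) M)) (nat_lit 40) (Nat.mod (T_z u) M) u) (Nat.ble (nat_lit 7) j)
noncomputable def dp_z_2 (j u : ℕ) : Bool :=
  Bool.rec (motive := fun _ => Bool) (lF3 T_ai T_zi T_a M (Nat.sub (T_z u) (Nat.mod (T_z u) M)) (Nat.mod (T_z u) M) u) (lS MG [T_a, T_zi, T_ai] M (Nat.sub (T_z u) (Nat.mod (T_z u) M)) (nat_lit 40) (Nat.mod (T_z u) M) u) (Nat.ble (nat_lit 9) j)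
noncomputable def dp_z_3 (j u : ℕ) : Bool :=
  Bool.rec (motive := fun _ => Bool) (dp_z_1 j u) (dp_z_2 j u) (Nat.ble (nat_lit 8) j)
noncomputable def disp_z (j u : ℕ) : Bool :=
  Bool.rec (motive := fun _ => Bool) (Bool.rec (motive := fun _ => Bool) (lDef P (nat_lit 3) (Nat.mod (T_z u) M) u) (lDef P (nat_lit 4) u (Nat.mod (T_z u) M)) (Nat.ble (nat_lit 1) j)) (Bool.rec (motive := fun _ => Bool) (Bool.rec (motive := fun _ => Bool) (lF1 T_zi M (Nat.sub (T_z u) (Nat.mod (T_z u) M)) (Nat.mod (T_z u) M) u) (lF3 T_b T_zi T_b M (Nat.sub (T_z u) (Nat.mod (T_z u) M)) (Nat.mod (T_z u) M) u) (Nat.ble (nat_lit 3) j)) (Bool.rec (motive := fun _ => Bool) (dp_z_0 j u) (dp_z_3 j u) (Nat.ble (nat_lit 6) j)) (Nat.ble (nat_lit 4) j)) (Nat.ble (nat_lit 2) j)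
noncomputable def chk_z (j u : ℕ) : Bool :=
  Bool.rec (motive := fun _ => Bool) (disp_z j u) (Nat.ble (Nat.succ (MG u)) A) (Nat.ble A (T_z u))
noncomputable def dp_zi_0 (j u : ℕ) : Bool :=
  Bool.rec (motive := fun _ => Bool) (lS MG [T_ai, T_z, T_a] M (Nat.sub (T_zi u) (Nat.mod (T_zi u) M)) (nat_lit 40) (Nat.mod (T_zi u) M) u) (lS MG [T_b, T_z, T_b] M (Nat.sub (T_zi u) (Nat.mod (T_zi u) M)) (nat_lit 40) (Nat.mod (T_zi u) M) u) (Nat.ble (nat_lit 9) j)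
noncomputable def dp_zi_1 (j u : ℕ) : Bool :=
  Bool.rec (motive := fun _ => Bool) (lF [T_a, T_a, T_a, T_b, T_a, T_a, T_a, T_b, T_a, T_a, T_a, T_b] M (Nat.sub (T_zi u) (Nat.mod (T_zi u) M)) (Nat.mod (T_zi u) M) u) (dp_zi_0 j u) (Nat.ble (nat_lit 8) j)
noncomputable def dp_zi_2 (j u : ℕ) : Bool :=
  Bool.rec (motive := fun _ => Bool) (lS MG [T_z] M (Nat.sub (T_zi u) (Nat.mod (T_zi u) M)) (nat_lit 40) (Nat.mod (T_zi u) M) u) (dp_zi_1 j u) (Nat.ble (nat_lit 7) j)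
noncomputable def dp_zi_3 (j u : ℕ) : Bool :=
  Bool.rec (motive := fun _ => Bool) (lF3 T_b T_z T_b M (Nat.sub (T_zi u) (Nat.mod (T_zi u) M)) (Nat.mod (T_zi u) M) u) (dp_zi_2 j u) (Nat.ble (nat_lit 6) j)
noncomputable def disp_zi (j u : ℕ) : Bool :=
  Bool.rec (motive := fun _ => Bool) (Bool.rec (motive := fun _ => Bool) (lDef P (nat_lit 3) u (Nat.mod (T_zi u) M)) (lDef P (nat_lit 4) (Nat.mod (T_zi u) M) u) (Nat.ble (nat_lit 1) j)) (Bool.rec (motive := fun _ => Bool) (lF1 T_z M (Nat.sub (T_zi u) (Nat.mod (T_zi u) M)) (Nat.mod (T_zi u) M) u) (Bool.rec (motive := fun _ => Bool) (lF3 T_ai T_z T_a M (Nat.sub (T_zi u) (Nat.mod (T_zi u) M)) (Nat.mod (T_zi u) M) u) (Bool.rec (motive := fun _ => Bool) (lF3 T_a T_z T_ai M (Nat.sub (T_zi u) (Nat.mod (T_zi u) M)) (Nat.mod (T_zi u) M) u) (dp_zi_3 j u) (Nat.ble (nat_lit 5) j)) (Nat.ble (nat_lit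 4) j)) (Nat.ble (nat_lit 3) j)) (Nat.ble (nat_lit 2) j)
noncomputable def chk_zi (j u : ℕ) : Bool :=
  Bool.rec (motive := fun _ => Bool) (disp_zi j u) (Nat.ble (Nat.succ (MG u)) A) (Nat.ble A (T_zi u))
noncomputable def dM_0 (j z1 z2 u : ℕ) : Bool :=
  Bool.rec (motive := fun _ => Bool) (mCo MG T_zi M (Nat.sub (MG u) (Nat.mod (MG u) M)) (nat_lit 40) z1 z2 u (Nat.mod (MG u) M)) (Bool.rec (motive := fun _ => Bool) (mCo MG T_ai M (Nat.sub (MG u) (Nat.mod (MG u) M)) (nat_lit 40) z1 z2 u (Nat.mod (MG u) M)) (mCo MG T_b M (Nat.sub (MG u) (Nat.mod (MG u) M)) (nat_lit 40) z1 z2 u (Nat.mod (MG u) M)) (Nat.ble (nat_lit 2) j)) (Nat.ble (nat_lit 1) j)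
noncomputable def dM_1 (j z1 z2 u : ℕ) : Bool :=
  mCo MG T_a M (Nat.sub (MG u) (Nat.mod (MG u) M)) (nat_lit 40) z1 z2 u (Nat.mod (MG u) M)
noncomputable def dM_2 (j z1 z2 u : ℕ) : Bool :=
  mCo MG T_z M (Nat.sub (MG u) (Nat.mod (MG u) M)) (nat_lit 40) z1 z2 u (Nat.mod (MG u) M)
noncomputable def dM_3 (j z1 z2 u : ℕ) : Bool :=
  Bool.rec (motive := fun _ => Bool) (Bool.rec (motive := fun _ => Bool) (mRel MG [T_ai, T_zi] [T_zi, T_ai] M (Nat.sub (MG u) (Nat.mod (MG u) M)) (nat_lit 40) z1 u (Nat.mod (MG u) M)) (mRel MG [T_z, T_a] [T_a, T_z] M (Nat.sub (MG u) (Nat.mod (MG u) M)) (nat_lit 40) z1 u (Nat.mod (MG u) M)) (Nat.ble (nat_lit 6) j)) (Bool.rec (motive := fun _ => Bool) (mRel MG [T_a, T_b, T_a, T_a] [T_ai, T_ai, T_z, T_b, T_ai, T_ai, T_ai, T_b, T_ai] M (Nat.sub (MG u) (Nat.mod (MG u) M)) (nat_lit 40) z1 u (Nat.mod (MG u) M)) (Bool.rec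 (motive := fun _ => Bool) (mRel MG [T_z, T_z, T_z, T_z, T_z, T_z, T_z, T_z, T_z, T_z, T_z, T_z, T_z, T_z, T_z, T_z, T_z, T_z, T_z, T_z, T_z, T_z, T_z, T_z, T_z, T_z, T_z, T_z, T_z, T_z, T_z, T_z, T_z, T_z, T_z, T_z, T_z, T_z, T_z, T_z, T_z, T_z, T_z, T_z, T_z, T_z, T_z, T_z, T_z, T_z, T_z, T_z, T_z, T_z, T_z, T_z, T_z, T_z, T_z, T_z, T_z, T_z, T_z, T_z, T_z, T_z, T_z, T_z, T_z, T_z, T_z, T_z, T_z, T_z, T_z, T_z, T_z, T_z, T_z, T_z, T_z, T_z, T_z, T_z, T_z, T_z, T_z, T_z, T_z, T_z, T_z, T_z, T_z, T_z, T_z, T_z, T_z, T_z, T_z, T_z, T_z, T_z, T_z, T_z, T_z] [] M (Nat.sub (MG u) (Nat.mod (MG u) M)) (nat_lit 40) z1 u (Nat.mod (MG u) M)) (mRel MG [T_ai, T_b, T_ai, T_ai, T_b, T_a, T_a, T_b] [T_b, T_ai, T_ai, T_b, T_a, T_a, T_b, T_a] M (Nat.sub (MG u) (Nat.mod (MG u) M)) (nat_lit 40) z1 u (Nat.mod (MG u) M)) (Nat.ble (nat_lit 9) j)) (Nat.ble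 (nat_lit 8) j)) (Nat.ble (nat_lit 7) j)
noncomputable def dM_4 (j z1 z2 u : ℕ) : Bool :=
  Bool.rec (motive := fun _ => Bool) (Bool.rec (motive := fun _ => Bool) (Bool.rec (motive := fun _ => Bool) (mRel MG [T_b, T_ai, T_ai, T_ai] [T_a, T_a, T_a, T_b, T_a, T_a, T_a, T_b, T_zi] M (Nat.sub (MG u) (Nat.mod (MG u) M)) (nat_lit 40) z1 u (Nat.mod (MG u) M)) (mRel MG [T_zi, T_a] [T_a, T_zi] M (Nat.sub (MG u) (Nat.mod (MG u) M)) (nat_lit 40) z1 u (Nat.mod (MG u) M)) (Nat.ble (nat_lit 11) j)) (Bool.rec (motive := fun _ => Bool) (mRel MG [T_z, T_b] [T_b, T_z] M (Nat.sub (MG u) (Nat.mod (MG u) M)) (nat_lit 40) z1 u (Nat.mod (MG u) M)) (mRel MG [T_ai, T_z] [T_z, T_ai] M (Nat.sub (MG u) (Nat.mod (MG u) M)) (nat_lit 40) z1 u (Nat.mod (MG u) M)) (Nat.ble (nat_lit 13) j)) (Nat.ble (nat_lit 12) j)) (Bool.rec (motive := fun _ => Bool) (Bool.rec (motive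 := fun _ => Bool) (mRel MG [T_a, T_b, T_ai, T_b, T_ai, T_ai, T_b, T_a, T_a] [T_ai, T_b, T_a, T_a, T_b, T_a, T_b] M (Nat.sub (MG u) (Nat.mod (MG u) M)) (nat_lit 40) z1 u (Nat.mod (MG u) M)) (mRel MG [T_ai, T_ai, T_b, T_a, T_a, T_b] [T_b, T_a, T_b, T_ai, T_ai, T_b, T_a, T_a, T_b, T_a] M (Nat.sub (MG u) (Nat.mod (MG u) M)) (nat_lit 40) z1 u (Nat.mod (MG u) M)) (Nat.ble (nat_lit 15) j)) (Bool.rec (motive := fun _ => Bool) (mRel MG [T_b, T_a, T_a, T_a] [T_ai, T_ai, T_ai, T_z, T_b, T_ai, T_ai, T_ai, T_b] M (Nat.sub (MG u) (Nat.mod (MG u) M)) (nat_lit 40) z1 u (Nat.mod (MG u) M)) (Bool.rec (motive := fun _ => Bool) (mRel MG [T_a, T_b, T_a, T_b, T_ai, T_ai, T_b, T_a, T_a, T_b, T_a, T_b, T_ai] [T_ai, T_b, T_a] M (Nat.sub (MG u) (Nat.mod (MG u) M)) (nat_lit 40) z1 u (Nat.mod (MG u) M)) (mRel MG [T_a, T_z] [T_z, T_a] M (Nat.sub (MG u) (Nat.mod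 (MG u) M)) (nat_lit 40) z1 u (Nat.mod (MG u) M)) (Nat.ble (nat_lit 18) j)) (Nat.ble (nat_lit 17) j)) (Nat.ble (nat_lit 16) j)) (Nat.ble (nat_lit 14) j)
noncomputable def dM_5 (j z1 z2 u : ℕ) : Bool :=
  Bool.rec (motive := fun _ => Bool) (dM_3 j z1 z2 u) (dM_4 j z1 z2 u) (Nat.ble (nat_lit 10) j)
noncomputable def dM_6 (j z1 z2 u : ℕ) : Bool :=
  Bool.rec (motive := fun _ => Bool) (Bool.rec (motive := fun _ => Bool) (Bool.rec (motive := fun _ => Bool) (mRel MG [T_a, T_b, T_ai, T_ai, T_b, T_a, T_a, T_b, T_a, T_b] [T_b, T_ai, T_ai, T_b, T_a, T_a] M (Nat.sub (MG u) (Nat.mod (MG u) M)) (nat_lit 40) z1 u (Nat.mod (MG u) M)) (mRel MG [T_a, T_a, T_a] [T_z, T_b, T_ai, T_ai, T_ai, T_b, T_ai, T_ai, T_ai, T_b] M (Nat.sub (MG u) (Nat.mod (MG u) M)) (nat_lit 40) z1 u (Nat.mod (MG u) M)) (Nat.ble (nat_lit 20) j)) (Bool.rec (motive := fun _ => Bool)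 (mRel MG [T_ai, T_ai, T_b, T_ai, T_ai, T_ai] [T_a, T_b, T_zi, T_a, T_a, T_a, T_b] M (Nat.sub (MG u) (Nat.mod (MG u) M)) (nat_lit 40) z1 u (Nat.mod (MG u) M)) (mRel MG [T_a, T_b, T_a, T_a, T_a] [T_ai, T_ai, T_z, T_b, T_ai, T_ai, T_ai, T_b] M (Nat.sub (MG u) (Nat.mod (MG u) M)) (nat_lit 40) z1 u (Nat.mod (MG u) M)) (Nat.ble (nat_lit 22) j)) (Nat.ble (nat_lit 21) j)) (Bool.rec (motive := fun _ => Bool) (Bool.rec (motive := fun _ => Bool) (mRel MG [T_a, T_a, T_b, T_a, T_a, T_a, T_b] [T_ai, T_z, T_b, T_ai, T_ai, T_ai] M (Nat.sub (MG u) (Nat.mod (MG u) M)) (nat_lit 40) z1 u (Nat.mod (MG u) M)) (mRel MG [T_b, T_a, T_a] [T_ai, T_ai, T_ai, T_z, T_b, T_ai, T_ai, T_ai, T_b, T_ai] M (Nat.sub (MG u) (Nat.mod (MG u) M)) (nat_lit 40) z1 u (Nat.mod (MG u) M)) (Nat.ble (nat_lit 24) j)) (Bool.rec (motive := fun _ => Bool) (mRel MG [T_b, T_ai, T_ai,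 T_b, T_a, T_a, T_b, T_ai, T_b, T_ai, T_ai, T_b, T_a, T_a, T_b, T_ai] [] M (Nat.sub (MG u) (Nat.mod (MG u) M)) (nat_lit 40) z1 u (Nat.mod (MG u) M)) (Bool.rec (motive := fun _ => Bool) (mRel MG [T_a, T_a, T_b, T_a, T_a, T_a, T_b, T_a] [T_ai, T_z, T_b, T_ai, T_ai] M (Nat.sub (MG u) (Nat.mod (MG u) M)) (nat_lit 40) z1 u (Nat.mod (MG u) M)) (mRel MG [T_b, T_a, T_a, T_b, T_ai, T_b, T_ai, T_ai, T_b, T_a] [T_a, T_a, T_b, T_a, T_b, T_ai] M (Nat.sub (MG u) (Nat.mod (MG u) M)) (nat_lit 40) z1 u (Nat.mod (MG u) M)) (Nat.ble (nat_lit 27) j)) (Nat.ble (nat_lit 26) j)) (Nat.ble (nat_lit 25) j)) (Nat.ble (nat_lit 23) j)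
noncomputable def dM_7 (j z1 z2 u : ℕ) : Bool :=
  Bool.rec (motive := fun _ => Bool) (Bool.rec (motive := fun _ => Bool) (Bool.rec (motive := fun _ => Bool) (mRel MG [T_b, T_a, T_a, T_b, T_ai, T_b, T_ai] [T_a, T_a, T_b, T_a, T_b, T_ai, T_ai, T_b, T_a] M (Nat.sub (MG u) (Nat.mod (MG u) M)) (nat_lit 40) z1 u (Nat.mod (MG u) M)) (mRel MG [T_b, T_a, T_a, T_a, T_b, T_a, T_a, T_a, T_b, T_zi, T_a] [T_ai, T_ai] M (Nat.sub (MG u) (Nat.mod (MG u) M)) (nat_lit 40) z1 u (Nat.mod (MG u) M)) (Nat.ble (nat_lit 29) j)) (Bool.rec (motive := fun _ => Bool) (mRel MG [T_ai, T_ai, T_b, T_a, T_a, T_b, T_ai, T_b, T_ai] [T_b, T_a, T_b, T_ai, T_ai, T_b, T_a] M (Nat.sub (MG u) (Nat.mod (MG u) M)) (nat_lit 40) z1 u (Nat.mod (MG u) M)) (mRel MG [T_a, T_a, T_b, T_a, T_b, T_ai, T_ai, T_b, T_a, T_a, T_b, T_a, T_b, T_ai, T_ai] [T_b] M (Nat.sub (MG u) (Nat.mod (MG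 u) M)) (nat_lit 40) z1 u (Nat.mod (MG u) M)) (Nat.ble (nat_lit 31) j)) (Nat.ble (nat_lit 30) j)) (Bool.rec (motive := fun _ => Bool) (Bool.rec (motive := fun _ => Bool) (mRel MG [T_ai, T_ai, T_b, T_ai, T_ai] [T_a, T_b, T_zi, T_a, T_a, T_a, T_b, T_a] M (Nat.sub (MG u) (Nat.mod (MG u) M)) (nat_lit 40) z1 u (Nat.mod (MG u) M)) (mRel MG [T_ai, T_ai] [T_b, T_zi, T_a, T_a, T_a, T_b, T_a, T_a, T_a, T_b, T_a] M (Nat.sub (MG u) (Nat.mod (MG u) M)) (nat_lit 40) z1 u (Nat.mod (MG u) M)) (Nat.ble (nat_lit 33) j)) (Bool.rec (motive := fun _ => Bool) (mRel MG [T_ai, T_ai, T_b, T_ai, T_ai, T_ai, T_b] [T_a, T_b, T_zi, T_a, T_a, T_a] M (Nat.sub (MG u) (Nat.mod (MG u) M)) (nat_lit 40) z1 u (Nat.mod (MG u) M)) (Bool.rec (motive := fun _ => Bool) (mRel MG [T_ai, T_b, T_ai, T_ai, T_ai, T_b, T_ai, T_ai, T_ai, T_z, T_b] [T_a, T_a] M (Nat.sub (MG u) (Nat.mod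 (MG u) M)) (nat_lit 40) z1 u (Nat.mod (MG u) M)) (mRel MG [T_ai, T_ai, T_ai, T_b] [T_b, T_zi, T_a, T_a, T_a, T_b, T_a, T_a, T_a] M (Nat.sub (MG u) (Nat.mod (MG u) M)) (nat_lit 40) z1 u (Nat.mod (MG u) M)) (Nat.ble (nat_lit 36) j)) (Nat.ble (nat_lit 35) j)) (Nat.ble (nat_lit 34) j)) (Nat.ble (nat_lit 32) j)
noncomputable def dM_8 (j z1 z2 u : ℕ) : Bool :=
  Bool.rec (motive := fun _ => Bool) (dM_6 j z1 z2 u) (dM_7 j z1 z2 u) (Nat.ble (nat_lit 28) j)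
noncomputable def dM_9 (j z1 z2 u : ℕ) : Bool :=
  Bool.rec (motive := fun _ => Bool) (dM_5 j z1 z2 u) (dM_8 j z1 z2 u) (Nat.ble (nat_lit 19) j)
noncomputable def dM_10 (j z1 z2 u : ℕ) : Bool :=
  Bool.rec (motive := fun _ => Bool) (dM_2 j z1 z2 u) (dM_9 j z1 z2 u) (Nat.ble (nat_lit 5) j)
noncomputable def dM_11 (j z1 z2 u : ℕ) : Bool :=
  Bool.rec (motive := fun _ => Bool) (dM_1 j z1 z2 u) (dM_10 j z1 z2 u) (Nat.ble (nat_lit 4) j)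
noncomputable def dM_12 (j z1 z2 u : ℕ) : Bool :=
  Bool.rec (motive := fun _ => Bool) (dM_0 j z1 z2 u) (dM_11 j z1 z2 u) (Nat.ble (nat_lit 3) j)
noncomputable def chkM (u : ℕ) : Bool :=
  Bool.rec (motive := fun _ => Bool) (band (Nat.ble (Nat.succ (Nat.mod (MG u) M)) u) (dM_12 (Nat.land (MR u) (nat_lit 63)) (Nat.land (Nat.shiftRight (MR u) (nat_lit 6)) (nat_lit 1023)) (Nat.shiftRight (MR u) (nat_lit 16)) u)) true (Nat.ble A (MG u))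
noncomputable def chkN (u : ℕ) : Bool :=
  band (chk_a (Nat.land (Nat.shiftRight (RS u) (nat_lit 0)) (nat_lit 63)) u) (band (chk_ai (Nat.land (Nat.shiftRight (RS u) (nat_lit 6)) (nat_lit 63)) u) (band (chk_b (Nat.land (Nat.shiftRight (RS u) (nat_lit 12)) (nat_lit 63)) u) (band (chk_z (Nat.land (Nat.shiftRight (RS u) (nat_lit 18)) (nat_lit 63)) u) (band (chk_zi (Nat.land (Nat.shiftRight (RS u) (nat_lit 24)) (nat_lit 63)) u) (chkM u)))))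
noncomputable def chkP (u : ℕ) : Bool := Bool.rec (motive := fun _ => Bool) (chkN u) true (Nat.ble M u)
noncomputable def liveP (u : ℕ) : Bool := Bool.rec (motive := fun _ => Bool) (Nat.ble A (MG u)) false (Nat.ble M u)
end H35.TCMHeF
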